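import Mathlib
import Cfsg.Agent.Lib.Fg6.FrobeniusTheorem

/-!
# Counting elements by order: isolation of the characteristic from the counts

A group of order `q (q² - 1)` whose numbers of elements of given orders lie in the set
`{1, q² - 1} ∪ q ℕ`, the only odd ones being `1` and `q²`, has exactly `q²` involutions, and its
`p`-singular elements are exactly the `q² - 1` elements of order `p`.
-/

set_option autoImplicit false

namespace Cfsg.Agent.Lib.NsePGL46

open Finset

variable {G : Type*} [Group G] [Finite G]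

/-- The number of elements of order `n`. -/
noncomputable def num (G : Type*) [Group G] (n : ℕ) : ℕ := Nat.card {g : G // orderOf g = n}

theorem num_one : num G 1 = 1 := by
  have : {g : G // orderOf g = 1} ≃ Unit :=
    { toFun := fun _ => ()
      invFun := fun _ => ⟨1, orderOf_one⟩
      left_inv := fun g => Subtype.ext (orderOf_eq_one_iff.1 g.2).symm
      right_inv := fun _ => rfl }
  rw [num, Nat.card_congr this, Nat.card_unique]

theorem num_pos_iff {n : ℕ} : 0 < num G n ↔ ∃ g : G, orderOf g = n := by
  rw [num, Nat.card_pos_iff]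
  exact ⟨fun h => ⟨h.1.some.1, h.1.some.2⟩, fun ⟨g, hg⟩ => ⟨⟨⟨g, hg⟩⟩, inferInstance⟩⟩

theorem even_num {n : ℕ} (hn : 2 < n) : Even (num G n) := by
  classical
  let := Fintype.ofFinite G
  rw [num, Nat.card_eq_fintype_card, Fintype.card_subtype, ← ZMod.natCast_eq_zero_iff_even,
    Finset.card_eq_sum_ones, Nat.cast_sum, Nat.cast_one]
  refine Finset.sum_involution (fun g _ => g⁻¹) (fun g _ => by decide) (fun g hg _ => ?_)
    (fun g hg => by simpa using hg) (fun g _ => inv_inv g)
  intro h
  have h2 : g ^ 2 = 1 := by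
    rw [pow_two]
    nth_rw 1 [← h]
    exact inv_mul_cancel g
  have := Nat.le_of_dvd two_pos (orderOf_dvd_of_pow_eq_one h2)
  rw [(Finset.mem_filter.1 hg).2] at this
  omega

theorem card_eq_sum_num [DecidableEq ℕ] [Fintype G] (P : ℕ → Prop) [DecidablePred P] :
    Nat.card {g : G // P (orderOf g)} =
      ∑ k ∈ (univ.image (orderOf : G → ℕ)).filter P, num G k := by
  classical
  rw [Nat.card_eq_fintype_card, Fintype.card_subtype,
    Finset.card_eq_sum_card_fiberwise (f := fun g : G => orderOf g)
      (t := (univ.image (orderOf : G → ℕ)).filter P) (by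
        intro g hg
        simp only [Finset.mem_coe, Finset.mem_filter, Finset.mem_image, Finset.mem_univ, true_and]
          at hg ⊢
        exact ⟨⟨g, rfl⟩, hg⟩)]
  refine Finset.sum_congr rfl fun k hk => ?_
  rw [num, Nat.card_eq_fintype_card, Fintype.card_subtype]
  congr 1
  ext g
  simp only [Finset.mem_filter, Finset.mem_univ, true_and]
  exact ⟨fun h => h.2, fun h => ⟨by rw [h]; exact (Finset.mem_filter.1 hk).2, h⟩⟩

/-- The hypothesis drawn from equal count sets. -/
structure CountHyp (G : Type*) [Group G] (p q : ℕ) : Prop where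
  card : Nat.card G = q * (q ^ 2 - 1)
  val : ∀ n, 0 < num G n → num G n = 1 ∨ num G n = q ^ 2 - 1 ∨ q ∣ num G n
  odd : ∀ n, Odd (num G n) → num G n = 1 ∨ num G n = q ^ 2
  sq : ∃ n, num G n = q ^ 2

variable {p q n : ℕ}

theorem isolation [Fact p.Prime] (hp2 : p ≠ 2) (hn : 0 < n) (hq : q = p ^ n)
    (H : CountHyp G p q) :
    num G 2 = q ^ 2 ∧ num G p = q ^ 2 - 1 ∧ ∀ g : G, p ∣ orderOf g → orderOf g = p := by
  classical
  let := Fintype.ofFinite G
  have hp : p.Prime := Fact.out
  have hpo : Odd p := hp.odd_of_ne_two hp2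
  have hq3 : 3 ≤ q := by
    have h1 := Nat.le_self_pow hn.ne' p
    have h2 := hp.two_le
    omega
  have hqo : Odd q := hq ▸ hpo.pow
  have hpq : p ∣ q := hq ▸ dvd_pow_self p hn.ne'
  have hq2 : 9 ≤ q ^ 2 := Nat.pow_le_pow_left hq3 2
  have hpn : ¬ p ∣ q ^ 2 - 1 := by
    intro h
    have h1 : p ∣ q ^ 2 := hpq.trans (dvd_pow_self q two_ne_zero)
    have := Nat.dvd_sub h1 h
    rw [Nat.sub_sub_self (by omega)] at this
    exact hp.not_dvd_one this
  -- involutions
  have hm2 : num G 2 = q ^ 2 := by
    obtain ⟨k, hk⟩ := H.sq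
    have hko : Odd (num G k) := hk ▸ hqo.pow
    rcases lt_trichotomy k 2 with hk2 | rfl | hk2
    · interval_cases k
      · exfalso
        have : num G 0 = 0 := by
          rw [num, Nat.card_eq_zero]
          exact Or.inl ⟨fun g => (orderOf_pos g.1).ne' g.2⟩
        omega
      · rw [num_one] at hk; omega
    · exact hk
    · exact absurd (even_num hk2) (Nat.not_even_iff_odd.2 hko)
  -- elements of order p
  have hmp : num G p = q ^ 2 - 1 := by
    have hdG : p ∣ Nat.card G := H.card ▸ hpq.mul_right _
    obtain ⟨x, hx⟩ := exists_prime_orderOf_dvd_card' p hdG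
    have hpos : 0 < num G p := num_pos_iff.2 ⟨x, hx⟩
    have hF : p ∣ num G p + 1 := by
      have h := Fg6.FrobeniusTheorem.dvd_card_pow_eq_one hdG
      have he : Nat.card {g : G // g ^ p = 1} = num G p + 1 := by
        have h1 : (univ.filter (fun g : G => orderOf g = 1)).card = 1 := by
          rw [← Fintype.card_subtype, ← Nat.card_eq_fintype_card]
          exact num_one
        have hu : univ.filter (fun g : G => g ^ p = 1) = univ.filter (fun g : G => orderOf g = p) ∪
            univ.filter (fun g : G => orderOf g = 1) := by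
          ext g
          simp only [Finset.mem_filter, Finset.mem_univ, true_and, Finset.mem_union]
          rw [← orderOf_dvd_iff_pow_eq_one, Nat.dvd_prime hp, or_comm]
        rw [num, Nat.card_eq_fintype_card, Nat.card_eq_fintype_card, Fintype.card_subtype,
          Fintype.card_subtype, hu, Finset.card_union_of_disjoint, h1]
        rw [Finset.disjoint_filter]
        intro g _ h2 h3
        exact hp.ne_one (h2.symm.trans h3)
      rwa [he] at h
    rcases H.val p hpos with h | h | h
    · exfalso
      rw [h] at hF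
      exact hp2 ((Nat.prime_dvd_prime_iff_eq hp Nat.prime_two).1 hF)
    · exact h
    · exfalso
      exact hp.not_dvd_one ((Nat.dvd_add_right (hpq.trans h)).1 hF)
  -- residues mod q
  set I : Finset ℕ := univ.image (orderOf : G → ℕ) with hI
  have hposI : ∀ k ∈ I, 0 < num G k := by
    intro k hk
    obtain ⟨g, -, hg⟩ := Finset.mem_image.1 hk
    exact num_pos_iff.2 ⟨g, hg⟩
  set A := I.filter (fun k => num G k = q ^ 2 - 1) with hA
  have h1I : 1 ∈ I := Finset.mem_image.2 ⟨1, Finset.mem_univ _, orderOf_one⟩
  have hother : ∀ k ∈ I, k ≠ 1 → k ∉ A → (num G k : ZMod q) = 0 := by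
    intro k hk hk1 hkA
    rcases H.val k (hposI k hk) with h | h | h
    · exfalso
      rcases lt_or_ge 2 k with hk2 | hk2
      · exact Nat.not_even_one (h ▸ even_num hk2)
      · interval_cases k
        · obtain ⟨g, -, hg⟩ := Finset.mem_image.1 hk
          exact (orderOf_pos g).ne' hg
        · exact hk1 rfl
        · omega
    · exact absurd (Finset.mem_filter.2 ⟨hk, h⟩) hkA
    · exact (ZMod.natCast_eq_zero_iff _ _).2 h
  have hsq : ((q ^ 2 - 1 : ℕ) : ZMod q) = -1 := by
    rw [Nat.cast_sub (by omega), Nat.cast_pow, ZMod.natCast_self]; simp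
  have hA1 : 1 ∉ A := fun h => by
    have := (Finset.mem_filter.1 h).2
    rw [num_one] at this
    omega
  have hGsum : Nat.card G = ∑ k ∈ I, num G k := by
    rw [← Nat.card_congr (Equiv.subtypeUnivEquiv (p := fun _ : G => True) (fun _ => trivial)),
      card_eq_sum_num (fun _ => True), Finset.filter_true_of_mem (fun _ _ => trivial)]
  have hAcard : A.card = 1 := by
    have h0 : ((Nat.card G : ℕ) : ZMod q) = 0 := by
      rw [H.card, Nat.cast_mul, ZMod.natCast_self, zero_mul]
    rw [hGsum, Nat.cast_sum, ← Finset.sum_subset (s₁ := insert 1 A)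
      (Finset.insert_subset h1I (Finset.filter_subset _ _))
      (fun k hk hk' => hother k hk (fun e => hk' (e ▸ Finset.mem_insert_self _ _))
        (fun e => hk' (Finset.mem_insert_of_mem e))),
      Finset.sum_insert hA1, num_one, Nat.cast_one,
      Finset.sum_congr rfl (fun k hk => show ((num G k : ℕ) : ZMod q) = -1 by
        rw [(Finset.mem_filter.1 hk).2, hsq]),
      Finset.sum_const, nsmul_eq_mul, mul_neg, mul_one, add_neg_eq_zero, ← Nat.cast_one,
      ZMod.natCast_eq_natCast_iff'] at h0
    have hle : A.card * (q ^ 2 - 1) + 1 ≤ q * (q ^ 2 - 1) := by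
      rw [← H.card, hGsum]
      calc A.card * (q ^ 2 - 1) + 1 = ∑ k ∈ insert 1 A, num G k := by
            rw [Finset.sum_insert hA1, num_one, Finset.sum_congr rfl
              (fun k hk => (Finset.mem_filter.1 hk).2), Finset.sum_const, smul_eq_mul, add_comm]
        _ ≤ _ := Finset.sum_le_sum_of_subset
              (Finset.insert_subset h1I (Finset.filter_subset _ _))
    have hlt : A.card < q := Nat.lt_of_mul_lt_mul_right (a := q ^ 2 - 1) (by omega)
    rw [Nat.mod_eq_of_lt (show 1 < q by omega), Nat.mod_eq_of_lt hlt] at h0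
    exact h0.symm
  have hAp : A = {p} := by
    obtain ⟨a, ha⟩ := Finset.card_eq_one.1 hAcard
    have : p ∈ A := Finset.mem_filter.2 ⟨Finset.mem_image.2 (by
      obtain ⟨g, hg⟩ := num_pos_iff.1 (show 0 < num G p by omega)
      exact ⟨g, Finset.mem_univ _, hg⟩), hmp⟩
    rw [ha, Finset.mem_singleton] at this
    rw [ha, this]
  -- elements of order prime to p
  set S := Nat.card {g : G // orderOf g ∣ q ^ 2 - 1} with hS
  have hSd : q ^ 2 - 1 ∣ S := by
    have h := Fg6.FrobeniusTheorem.dvd_card_pow_eq_one (G := G) (m := q ^ 2 - 1)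
      (H.card ▸ Dvd.intro_left _ rfl)
    rwa [hS, Nat.card_congr (Equiv.subtypeEquivRight (fun g : G => orderOf_dvd_iff_pow_eq_one))]
  have hS1 : (S : ZMod q) = 1 := by
    rw [hS, card_eq_sum_num (fun k => k ∣ q ^ 2 - 1), Nat.cast_sum,
      Finset.sum_eq_single 1, num_one, Nat.cast_one]
    · intro k hk hk1
      obtain ⟨hkI, hkd⟩ := Finset.mem_filter.1 hk
      refine hother k hkI hk1 ?_
      rw [hAp, Finset.mem_singleton]
      rintro rfl
      exact hpn hkd
    · intro h
      refine absurd ?_ h
      simp only [Finset.mem_filter, Finset.mem_image, Finset.mem_univ, true_and]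
      exact ⟨⟨1, orderOf_one⟩, one_dvd _⟩
  obtain ⟨t, ht⟩ := hSd
  have hSle : S ≤ Nat.card G := Nat.card_le_card_of_injective _ Subtype.val_injective
  have htq : t ≤ q := by
    rw [H.card, ht, mul_comm] at hSle
    exact Nat.le_of_mul_le_mul_right hSle (by omega)
  have hdvd : q ∣ t + 1 := by
    rw [← ZMod.natCast_eq_zero_iff, Nat.cast_add, Nat.cast_one]
    rw [ht, Nat.cast_mul, hsq] at hS1
    linear_combination -hS1
  have ht1 : t + 1 = q := by
    obtain ⟨c, hc⟩ := hdvd
    rcases Nat.lt_or_ge c 2 with hc2 | hc2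
    · interval_cases c <;> omega
    · have := Nat.mul_le_mul_left q hc2
      omega
  have hiff : ∀ g : G, orderOf g ∣ q ^ 2 - 1 ↔ ¬ p ∣ orderOf g := by
    refine fun g => ⟨fun h hd => hpn (hd.trans h), fun h => ?_⟩
    have hd : orderOf g ∣ q * (q ^ 2 - 1) := H.card ▸ orderOf_dvd_natCard g
    exact (Nat.Coprime.dvd_of_dvd_mul_left (hq ▸ ((hp.coprime_iff_not_dvd.2 h).symm.pow_right n)) hd)
  refine ⟨hm2, hmp, fun g hg => ?_⟩
  have hsub : univ.filter (fun g : G => orderOf g = p) ⊆ univ.filter (fun g : G => p ∣ orderOf g) := by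
    intro g hg
    simp only [Finset.mem_filter, Finset.mem_univ, true_and] at hg ⊢
    rw [hg]
  have hc1 : (univ.filter (fun g : G => orderOf g = p)).card = q ^ 2 - 1 := by
    rw [← hmp, num, Nat.card_eq_fintype_card, Fintype.card_subtype]
  have hc2 : (univ.filter (fun g : G => p ∣ orderOf g)).card = q ^ 2 - 1 := by
    have h := Finset.card_filter_add_card_filter_not (s := (univ : Finset G))
      (fun g : G => p ∣ orderOf g)
    have hS' : S = (univ.filter (fun g : G => ¬ p ∣ orderOf g)).card := by
      rw [hS, Nat.card_congr (Equiv.subtypeEquivRight hiff), Nat.card_eq_fintype_card,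
        Fintype.card_subtype]
    rw [← hS', Finset.card_univ, ← Nat.card_eq_fintype_card, H.card, ht] at h
    have hq' : q * (q ^ 2 - 1) = (q ^ 2 - 1) * t + (q ^ 2 - 1) := by rw [← ht1]; ring
    omega
  have heq := Finset.eq_of_subset_of_card_le hsub (by omega)
  have : g ∈ univ.filter (fun g : G => orderOf g = p) := by
    rw [heq]; simp [hg]
  simpa using this

end Cfsg.Agent.Lib.NsePGL46
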