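import Cfsg.Agent.Lib.Linear.Order

/-!
# `PGL₂(q)`, `q` odd, has `q²` involutions

An invertible two by two matrix is an involution modulo scalars iff its trace vanishes.
-/

set_option autoImplicit false

namespace Cfsg.Agent.Lib.NsePGL46

open Matrix

variable {F : Type*} [Field F] [Fintype F]

theorem card_quadric :
    Nat.card {t : F × F × F // t.1 * t.1 + t.2.1 * t.2.2 = 0} = Fintype.card F ^ 2 := by
  classical
  let e : F × F → {t : F × F × F // t.1 * t.1 + t.2.1 * t.2.2 = 0} := fun bw =>
    if hb : bw.1 = 0 then ⟨(0, 0, bw.2), by simp⟩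
    else ⟨(bw.2, bw.1, -(bw.2 * bw.2) / bw.1), by field_simp; ring⟩
  have he : Function.Bijective e := by
    constructor
    · rintro ⟨b, w⟩ ⟨b', w'⟩ h
      have h' := congrArg Subtype.val h
      simp only [e] at h'
      by_cases hb : b = 0
      · by_cases hb' : b' = 0
        · rw [dif_pos hb, dif_pos hb'] at h'
          simp only [Prod.mk.injEq, true_and] at h'
          simp [hb, hb', h']
        · rw [dif_pos hb, dif_neg hb'] at h'
          simp only [Prod.mk.injEq] at h'
          exact absurd h'.2.1.symm hb'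
      · by_cases hb' : b' = 0
        · rw [dif_neg hb, dif_pos hb'] at h'
          simp only [Prod.mk.injEq] at h'
          exact absurd h'.2.1 hb
        · rw [dif_neg hb, dif_neg hb'] at h'
          simp only [Prod.mk.injEq] at h'
          simp [h'.1, h'.2.1]
    · rintro ⟨⟨a, b, c⟩, h⟩
      simp only at h
      by_cases hb : b = 0
      · have ha : a = 0 := by simpa [hb] using h
        exact ⟨(0, c), by simp [e, ha, hb]⟩
      · refine ⟨(b, a), Subtype.ext ?_⟩
        simp only [e, hb, dif_neg, not_false_iff, Prod.mk.injEq, true_and]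
        field_simp
        linear_combination -h
  rw [← Nat.card_congr (Equiv.ofBijective e he), Nat.card_prod, Nat.card_eq_fintype_card, pow_two]

/-- A non-central element with central square has trace zero, and conversely. -/
theorem mk_order_two_iff (h2 : (2 : F) ≠ 0) (g : GL (Fin 2) F) :
    orderOf (ProjGenLinGroup.mk g) = 2 ↔
      (g : Matrix (Fin 2) (Fin 2) F) 0 0 + (g : Matrix (Fin 2) (Fin 2) F) 1 1 = 0 := by
  classical
  have hc : ∀ g : GL (Fin 2) F, ProjGenLinGroup.mk g = 1 ↔
      (g : Matrix (Fin 2) (Fin 2) F) 0 1 = 0 ∧ (g : Matrix (Fin 2) (Fin 2) F) 1 0 = 0 ∧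
        (g : Matrix (Fin 2) (Fin 2) F) 0 0 = (g : Matrix (Fin 2) (Fin 2) F) 1 1 := by
    intro g
    rw [ProjGenLinGroup.mk_eq_one, Matrix.GeneralLinearGroup.center_eq_range_scalar,
      MonoidHom.mem_range]
    constructor
    · rintro ⟨u, rfl⟩
      simp [GeneralLinearGroup.coe_scalar, Matrix.scalar_apply]
    · rintro ⟨h01, h10, h00⟩
      have hne : (g : Matrix (Fin 2) (Fin 2) F) 0 0 ≠ 0 := by
        intro h
        have := GeneralLinearGroup.det_ne_zero g
        rw [Matrix.det_fin_two, h, h01] at this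
        simp at this
      refine ⟨Units.mk0 _ hne, Units.ext ?_⟩
      ext i j
      fin_cases i <;> fin_cases j <;>
        simp [GeneralLinearGroup.coe_scalar, Matrix.scalar_apply, h01, h10, h00]
  set M := (g : Matrix (Fin 2) (Fin 2) F) with hM
  have hdet : M 0 0 * M 1 1 - M 0 1 * M 1 0 ≠ 0 := by
    rw [← Matrix.det_fin_two]; exact GeneralLinearGroup.det_ne_zero g
  constructor
  · intro h
    have hsq : ProjGenLinGroup.mk (g * g) = 1 := by
      rw [map_mul, ← pow_two]
      exact orderOf_dvd_iff_pow_eq_one.1 (dvd_of_eq h)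
    obtain ⟨e1, e2, e3⟩ := (hc _).1 hsq
    rw [Units.val_mul, Matrix.mul_apply, Fin.sum_univ_two] at e1 e2 e3
    rw [Matrix.mul_apply, Fin.sum_univ_two] at e3
    by_contra ht
    rw [← hM] at e1 e2 e3
    have h01 : M 0 1 = 0 := (mul_eq_zero.1 (show (M 0 0 + M 1 1) * M 0 1 = 0 by
      linear_combination e1)).resolve_left ht
    have h10 : M 1 0 = 0 := (mul_eq_zero.1 (show (M 0 0 + M 1 1) * M 1 0 = 0 by
      linear_combination e2)).resolve_left ht
    have h00 : M 0 0 = M 1 1 := sub_eq_zero.1 ((mul_eq_zero.1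
      (show (M 0 0 + M 1 1) * (M 0 0 - M 1 1) = 0 by linear_combination e3)).resolve_left ht)
    rw [(hc g).2 ⟨h01, h10, h00⟩, orderOf_one] at h
    exact absurd h (by decide)
  · intro ht
    refine orderOf_eq_prime ?_ ?_
    · rw [pow_two, ← map_mul, hc, Units.val_mul, Matrix.mul_apply, Matrix.mul_apply,
        Matrix.mul_apply, Matrix.mul_apply]
      simp only [Fin.sum_univ_two, ← hM]
      exact ⟨by linear_combination M 0 1 * ht, by linear_combination M 1 0 * ht,
        by linear_combination (M 0 0 - M 1 1) * ht⟩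
    · intro h
      obtain ⟨h01, h10, h00⟩ := (hc g).1 h
      rw [← hM] at h01 h10 h00
      have h' : (2 : F) * M 1 1 = 0 := by linear_combination ht - h00
      have h11 := (mul_eq_zero.1 h').resolve_left h2
      exact hdet (by rw [h01, h11]; ring)

theorem card_pgl_involutions (h2 : (2 : F) ≠ 0) :
    Nat.card {g : ProjGenLinGroup (Fin 2) F // orderOf g = 2} = Fintype.card F ^ 2 := by
  classical
  let T := {g : GL (Fin 2) F // (g : Matrix (Fin 2) (Fin 2) F) 0 0 +
    (g : Matrix (Fin 2) (Fin 2) F) 1 1 = 0}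
  let U := {t : F × F × F // ¬ t.1 * t.1 + t.2.1 * t.2.2 = 0}
  let f : U → T := fun t =>
    ⟨GeneralLinearGroup.mkOfDetNeZero !![t.1.1, t.1.2.1; t.1.2.2, -t.1.1] (by
      rw [Matrix.det_fin_two_of]
      intro h
      exact t.2 (by linear_combination -h)), by
      show !![t.1.1, t.1.2.1; t.1.2.2, -t.1.1] 0 0 + !![t.1.1, t.1.2.1; t.1.2.2, -t.1.1] 1 1 = 0
      simp⟩
  have hf : Function.Bijective f := by
    constructor
    · rintro ⟨⟨a, b, c⟩, h⟩ ⟨⟨a', b', c'⟩, h'⟩ e
      have e' : (!![a, b; c, -a] : Matrix (Fin 2) (Fin 2) F) = !![a', b'; c', -a'] :=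
        congrArg (fun t : T => (t.1 : Matrix (Fin 2) (Fin 2) F)) e
      have h00 : a = a' := congrFun (congrFun e' 0) 0
      have h01 : b = b' := congrFun (congrFun e' 0) 1
      have h10 : c = c' := congrFun (congrFun e' 1) 0
      subst h00 h01 h10
      rfl
    · rintro ⟨g, hg⟩
      have hdet := GeneralLinearGroup.det_ne_zero g
      rw [Matrix.det_fin_two] at hdet
      have h11 : (g : Matrix (Fin 2) (Fin 2) F) 1 1 = -(g : Matrix (Fin 2) (Fin 2) F) 0 0 :=
        eq_neg_of_add_eq_zero_right hg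
      refine ⟨⟨((g : Matrix (Fin 2) (Fin 2) F) 0 0, (g : Matrix (Fin 2) (Fin 2) F) 0 1,
        (g : Matrix (Fin 2) (Fin 2) F) 1 0), fun h => hdet (by rw [h11]; linear_combination -h)⟩,
        Subtype.ext (Units.ext ?_)⟩
      show !![_, _; _, _] = _
      ext i j
      fin_cases i <;> fin_cases j <;> simp [h11]
  have hU : Nat.card U + Fintype.card F ^ 2 = Fintype.card F ^ 3 := by
    rw [← card_quadric (F := F), add_comm, ← Nat.card_sum,
      Nat.card_congr (Equiv.sumCompl (fun t : F × F × F => t.1 * t.1 + t.2.1 * t.2.2 = 0)),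
      Nat.card_prod, Nat.card_prod, Nat.card_eq_fintype_card, ← pow_two, ← pow_succ']
  set S : Set (GL (Fin 2) F ⧸ Subgroup.center (GL (Fin 2) F)) :=
    {g | orderOf (G := ProjGenLinGroup (Fin 2) F) g = 2} with hS
  have hpre : Nat.card T = Nat.card (Subgroup.center (GL (Fin 2) F)) *
      Nat.card {g : ProjGenLinGroup (Fin 2) F // orderOf g = 2} := by
    have h1 := Nat.card_congr (QuotientGroup.preimageMkEquivSubgroupProdSet _ S)
    rw [Nat.card_prod] at h1
    refine (Nat.card_congr (Equiv.subtypeEquivRight fun g => ?_)).trans h1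
    exact (mk_order_two_iff h2 g).symm
  rw [Linear.card_center_GL, Nat.card_units, Nat.card_eq_fintype_card (α := F),
    ← Nat.card_congr (Equiv.ofBijective f hf)] at hpre
  have hq : 1 < Fintype.card F := Fintype.one_lt_card
  refine Nat.eq_of_mul_eq_mul_left (show 0 < Fintype.card F - 1 by omega) (hpre.symm.trans ?_)
  obtain ⟨m, hm⟩ : ∃ m, Fintype.card F = m + 1 := ⟨_, (Nat.sub_add_cancel (by omega)).symm⟩
  rw [hm, Nat.add_sub_cancel]
  rw [hm, show (m + 1) ^ 3 = m * (m + 1) ^ 2 + (m + 1) ^ 2 by ring] at hU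
  exact Nat.add_right_cancel hU

end Cfsg.Agent.Lib.NsePGL46
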