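import Cfsg.Agent.Lib.SharpThree.Frame
import Cfsg.Agent.Lib.NsePGL46.Count

/-!
# Element orders in sharply triply transitive groups of odd characteristic

The `p`-singular elements are the `q² - 1` conjugates of translations, the other non-trivial orders
occur a multiple of `q` times, and there are `q (1 + N)` involutions where `N` is the number of
elements of the two-point stabiliser inverted by the swap.
-/

set_option autoImplicit false

namespace Cfsg.Agent.Lib.NsePGL46.Sharp

open MulAction Cfsg.Agent.Lib.SharpThree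

variable {X α V : Type*} [Group X] [MulAction X α] [AddCommGroup V] {F : Frame X α V}

/-- The translations form a homomorphic image of `V`. -/
theorem tr_inj {v w : V} (h : F.tr v = F.tr w) : v = w := F.pt_inj v w (by rw [h])

theorem decomp {g : X} (hg : g • F.a = F.a) : ∃ (v : V) (h : F.H), g = F.tr v * h := by
  obtain ⟨v, hv⟩ := F.pt_surj (g • F.b) (fun e => F.hab (MulAction.injective g (hg.trans e.symm)))
  refine ⟨v, ⟨(F.tr v)⁻¹ * g, F.mem_H.2 ⟨?_, ?_⟩⟩, by simp⟩
  · rw [mul_smul, hg, inv_smul_eq_iff, F.tr_a]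
  · rw [mul_smul, ← hv, inv_smul_smul]

theorem exists_move [Finite α] (x : α) : ∃ k : X, k • F.a = x := by
  by_cases h1 : x = F.a
  · exact ⟨1, by rw [h1, one_smul]⟩
  by_cases h2 : x = F.b
  · exact ⟨F.s, by rw [h2, F.hsa]⟩
  obtain ⟨k, hk, -, -⟩ := F.trans3 x F.a F.b h1 h2 F.hab
  exact ⟨k, hk⟩

/-- A chosen element moving `a` to `x`. -/
noncomputable def mv [Finite α] (F : Frame X α V) (x : α) : X := (exists_move (F := F) x).choose

theorem mv_a [Finite α] (x : α) : mv F x • F.a = x := (exists_move (F := F) x).choose_spec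

theorem exists_move_two [Finite α] (h3 : 2 < Nat.card α) {x y : α} (hxy : x ≠ y) :
    ∃ k : X, k • F.a = x ∧ k • F.b = y := by
  classical
  let := Fintype.ofFinite α
  obtain ⟨w, hw⟩ : ∃ w, w ∉ ({x, y} : Finset α) := by
    by_contra! h
    have := Finset.card_le_card (s := Finset.univ) (t := ({x, y} : Finset α)) (fun w _ => h w)
    rw [Finset.card_univ, ← Nat.card_eq_fintype_card] at this
    have := this.trans Finset.card_le_two
    omega
  simp only [Finset.mem_insert, Finset.mem_singleton, not_or] at hw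
  obtain ⟨k, h1, h2, -⟩ := F.trans3 x y w hxy (Ne.symm hw.1) (Ne.symm hw.2)
  exact ⟨k, h1, h2⟩

theorem pow_tr_mul (v : V) (h : F.H) (k : ℕ) :
    ∃ u : V, (F.tr v * (h : X)) ^ k = F.tr u * ((h ^ k : F.H) : X) := by
  induction k with
  | zero => exact ⟨0, by simp [F.tr_zero]⟩
  | succ k ih =>
    obtain ⟨u, hu⟩ := ih
    refine ⟨u + (h ^ k) • v, ?_⟩
    rw [pow_succ, hu, F.tr_add, ← F.tr_act, pow_succ, Subgroup.coe_mul]
    group

section order

variable {p q : ℕ} [Fact p.Prime] [Finite α] (hexp : ∀ v : V, p • v = 0) (hV : Nat.card V = q)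
  (hpq : p ∣ q) (hp2 : p ≠ 2)

include hexp

theorem tr_pow (v : V) : F.tr v ^ p = 1 := by
  have : ∀ k : ℕ, F.tr v ^ k = F.tr (k • v) := fun k => by
    induction k with
    | zero => simp [F.tr_zero]
    | succ k ih => rw [pow_succ, ih, succ_nsmul, F.tr_add]
  rw [this, hexp, F.tr_zero]

theorem orderOf_tr {v : V} (hv : v ≠ 0) : orderOf (F.tr v) = p :=
  orderOf_eq_prime (tr_pow hexp v) (fun h => hv (tr_inj (by rw [h, F.tr_zero])))

include hV hpq

theorem coprime_H : ¬ p ∣ Nat.card F.H := by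
  intro h
  have h1 := F.card_H
  rw [hV] at h1
  have := (Nat.dvd_add_right h).1 (h1 ▸ hpq : p ∣ Nat.card F.H + 1)
  exact (Fact.out : p.Prime).not_dvd_one this

omit hexp hV hpq in
theorem fix_unique {v : V} (hv : v ≠ 0) {x : α} (hx : F.tr v • x = x) : x = F.a := by
  by_contra hne
  obtain ⟨w, rfl⟩ := F.pt_surj x hne
  have : F.pt (v + w) = F.pt w := (F.tr_smul v w).symm.trans hx
  exact hv (by simpa using F.pt_injective this)

omit hexp hV hpq in
theorem centralizer_tr {v : V} (hv : v ≠ 0) {y : X} (hy : y * F.tr v = F.tr v * y) :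
    ∃ w : V, y = F.tr w := by
  have hya : y • F.a = F.a := by
    refine fix_unique hv ?_
    rw [← mul_smul, ← hy, mul_smul, F.tr_a]
  obtain ⟨w, h, rfl⟩ := decomp hya
  refine ⟨w, ?_⟩
  have h1 : F.tr w * F.tr (h • v) * (h : X) = F.tr v * F.tr w * (h : X) := by
    rw [← F.tr_act, mul_assoc (F.tr v), ← hy]; group
  have h2 : w + h • v = v + w := tr_inj (by
    rw [F.tr_add, F.tr_add]; exact mul_right_cancel h1)
  have h3 : h = 1 := F.eq_one_of_smul h hv (by
    rw [add_comm v w] at h2; exact add_left_cancel h2)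
  rw [h3, Subgroup.coe_one, mul_one]

theorem exists_tr_of_prime [Finite X] {g : X} (hg : orderOf g = p) :
    ∃ (k : X) (v : V), v ≠ 0 ∧ g = k * F.tr v * k⁻¹ := by
  have hp : p.Prime := Fact.out
  have hz : IsPGroup p (Subgroup.zpowers g) :=
    IsPGroup.of_card (n := 1) (by rw [Nat.card_zpowers, hg, pow_one])
  have hmod := hz.card_modEq_card_fixedPoints (α := α)
  have hne : Nat.card (fixedPoints (Subgroup.zpowers g) α) ≠ 0 := by
    intro h0
    rw [h0, ← F.card_V, hV] at hmod
    exact hp.not_dvd_one ((Nat.dvd_add_right hpq).1 (Nat.modEq_zero_iff_dvd.1 hmod))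
  obtain ⟨⟨x, hx⟩⟩ := (Nat.card_ne_zero.1 hne).1
  have hgx : g • x = x := hx ⟨g, Subgroup.mem_zpowers g⟩
  set k := mv F x with hk
  have hka : k • F.a = x := mv_a x
  have hca : (k⁻¹ * g * k) • F.a = F.a := by
    rw [mul_smul, mul_smul, hka, hgx, inv_smul_eq_iff]
    exact hka.symm
  obtain ⟨v, h, hvh⟩ := decomp hca
  have hord : orderOf (k⁻¹ * g * k) = p := by
    rw [show k⁻¹ * g * k = MulAut.conj k⁻¹ g by simp, MulEquiv.orderOf_eq, hg]
  obtain ⟨u, hu⟩ := pow_tr_mul v h p
  rw [← hvh, ← hord, pow_orderOf_eq_one, hord] at hu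
  have hu0 : u = 0 := by
    apply F.pt_inj
    have := congrArg (· • F.b) hu
    simp only [one_smul, mul_smul, F.H_b] at this
    rw [← this, F.tr_zero, one_smul]
  rw [hu0, F.tr_zero, one_mul] at hu
  have hhp : h ^ p = 1 := Subtype.ext (by rw [Subgroup.coe_one]; exact hu.symm)
  have hh1 : h = 1 := by
    rcases (Nat.dvd_prime hp).1 (orderOf_dvd_of_pow_eq_one hhp) with h' | h'
    · exact orderOf_eq_one_iff.1 h'
    · have := F.finite_H
      exact absurd (h' ▸ orderOf_dvd_natCard h) (coprime_H (F := F) hexp hV hpq)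
  rw [hh1, Subgroup.coe_one, mul_one] at hvh
  refine ⟨k, v, fun hv => ?_, by rw [← hvh]; group⟩
  rw [hv, F.tr_zero] at hvh
  rw [hvh, orderOf_one] at hord
  exact hp.ne_one hord.symm

include F in
theorem isolated [Finite X] {g : X} (hg : p ∣ orderOf g) : orderOf g = p := by
  have hp : p.Prime := Fact.out
  obtain ⟨m, hm⟩ := hg
  have hm0 : 0 < m := by
    rcases Nat.eq_zero_or_pos m with rfl | h
    · have := orderOf_pos g; omega
    · exact h
  have hx : orderOf (g ^ m) = p := by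
    rw [orderOf_pow_of_dvd hm0.ne' (hm ▸ Dvd.intro_left p rfl), hm, Nat.mul_div_cancel _ hm0]
  obtain ⟨k, v, hv, hkv⟩ := exists_tr_of_prime (F := F) hexp hV hpq hx
  have hc : (k⁻¹ * g * k) * F.tr v = F.tr v * (k⁻¹ * g * k) := by
    rw [show F.tr v = k⁻¹ * g ^ m * k by rw [hkv]; group]
    calc k⁻¹ * g * k * (k⁻¹ * g ^ m * k) = k⁻¹ * (g * g ^ m) * k := by group
      _ = k⁻¹ * (g ^ m * g) * k := by rw [← pow_succ, ← pow_succ']
      _ = k⁻¹ * g ^ m * k * (k⁻¹ * g * k) := by group
  obtain ⟨w, hw⟩ := centralizer_tr hv hc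
  have h1 : orderOf (k⁻¹ * g * k) ∣ p := hw ▸ orderOf_dvd_of_pow_eq_one (tr_pow hexp w)
  rw [show k⁻¹ * g * k = MulAut.conj k⁻¹ g by simp, MulEquiv.orderOf_eq] at h1
  exact Nat.dvd_antisymm h1 ⟨m, hm⟩

include F in
theorem num_p [Finite X] : num X p = q ^ 2 - 1 := by
  classical
  have := F.finite_V
  let f : α × {v : V // v ≠ 0} → {g : X // orderOf g = p} := fun xv =>
    ⟨MulAut.conj (mv F xv.1) (F.tr xv.2.1), by
      rw [MulEquiv.orderOf_eq, orderOf_tr hexp xv.2.2]⟩
  have hfix : ∀ (x : α) (v : V), v ≠ 0 → ∀ y : α,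
      MulAut.conj (mv F x) (F.tr v) • y = y ↔ y = x := by
    intro x v hv y
    rw [MulAut.conj_apply, mul_smul, mul_smul, smul_eq_iff_eq_inv_smul]
    constructor
    · intro h
      have := fix_unique hv h
      rw [inv_smul_eq_iff, mv_a] at this
      exact this
    · rintro rfl
      rw [show (mv F y)⁻¹ • y = F.a from inv_smul_eq_iff.2 (mv_a y).symm, F.tr_a]
  have hf : Function.Bijective f := by
    constructor
    · rintro ⟨x, v, hv⟩ ⟨y, w, hw⟩ e
      have e' : MulAut.conj (mv F x) (F.tr v) = MulAut.conj (mv F y) (F.tr w) := congrArg Subtype.val e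
      have hxy : x = y := (hfix y w hw x).1 (e' ▸ (hfix x v hv x).2 rfl)
      subst hxy
      have := tr_inj ((MulAut.conj (mv F x)).injective e')
      subst this
      rfl
    · rintro ⟨g, hg⟩
      obtain ⟨k, v, hv, rfl⟩ := exists_tr_of_prime (F := F) hexp hV hpq hg
      set x := k • F.a with hx
      have hka : ((mv F x)⁻¹ * k) • F.a = F.a := by
        rw [mul_smul, inv_smul_eq_iff, mv_a]
      obtain ⟨w, hw⟩ := F.tr_conj _ hka v
      refine ⟨⟨x, ⟨w, fun h0 => hv (tr_inj (F := F) ?_)⟩⟩, Subtype.ext ?_⟩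
      · rw [h0, F.tr_zero, conj_eq_one_iff] at hw
        rw [hw, F.tr_zero]
      · show mv F x * F.tr w * (mv F x)⁻¹ = k * F.tr v * k⁻¹
        rw [← hw]; group
  let := Fintype.ofFinite V
  rw [num, ← Nat.card_congr (Equiv.ofBijective f hf), Nat.card_prod, ← F.card_V, hV,
    Nat.card_eq_fintype_card, Fintype.card_subtype_compl, Fintype.card_subtype_eq,
    ← Nat.card_eq_fintype_card, hV, ← Nat.sq_sub_sq, one_pow]

omit hpq in
include F in
theorem num_other [Finite X] {n : ℕ} (h1 : n ≠ 1) (hnp : n ≠ p) : q ∣ num X n := by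
  classical
  let T : Subgroup X :=
    { carrier := Set.range F.tr
      one_mem' := ⟨0, F.tr_zero⟩
      mul_mem' := by
        rintro _ _ ⟨v, rfl⟩ ⟨w, rfl⟩
        exact ⟨v + w, F.tr_add v w⟩
      inv_mem' := by
        rintro _ ⟨v, rfl⟩
        exact ⟨-v, F.tr_neg v⟩ }
  have hT : Nat.card T = q := by
    rw [← hV]
    exact Nat.card_range_of_injective (fun v w h => tr_inj h)
  let S := {g : X // orderOf g = n}
  letI act : MulAction T S :=
    { smul := fun t g => ⟨MulAut.conj (t : X) g.1, by rw [MulEquiv.orderOf_eq]; exact g.2⟩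
      one_smul := fun g => Subtype.ext (show MulAut.conj ((1 : T) : X) g.1 = g.1 by simp)
      mul_smul := fun s t g => Subtype.ext (show MulAut.conj ((s * t : T) : X) g.1 =
        MulAut.conj (s : X) (MulAut.conj (t : X) g.1) by simp [mul_assoc]) }
  have hfree : ∀ g : S, stabilizer T g = ⊥ := by
    intro g
    rw [Subgroup.eq_bot_iff_forall]
    rintro ⟨t, v, rfl⟩ ht
    by_contra hne
    have hv : v ≠ 0 := fun h => hne (Subtype.ext (by rw [h]; exact F.tr_zero))
    have he : F.tr v * g.1 * (F.tr v)⁻¹ = g.1 := congrArg Subtype.val ht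
    obtain ⟨w, hw⟩ := centralizer_tr hv (mul_inv_eq_iff_eq_mul.1 he).symm
    rcases (Nat.dvd_prime (Fact.out : p.Prime)).1
      (orderOf_dvd_of_pow_eq_one (hw ▸ tr_pow hexp w : g.1 ^ p = 1)) with h | h
    · exact h1 (g.2.symm.trans h)
    · exact hnp (g.2.symm.trans h)
  rw [num, ← hT, Nat.card_congr (MulAction.selfEquivOrbitsQuotientProd hfree), Nat.card_prod]
  exact Dvd.intro_left _ rfl

omit hpq in
include hp2 in
theorem num_two [Finite X] :
    num X 2 = q * (1 + Nat.card {h : F.H // F.swap h = h⁻¹}) := by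
  classical
  have hp : p.Prime := Fact.out
  have := F.finite_V
  let := Fintype.ofFinite V
  let := Fintype.ofFinite α
  have hodd : Odd q := by
    rw [← Nat.not_even_iff_odd, even_iff_two_dvd]
    intro h
    have : Fact (Nat.Prime 2) := ⟨Nat.prime_two⟩
    obtain ⟨v, hv⟩ := exists_prime_addOrderOf_dvd_card' (G := V) 2 (hV ▸ h)
    have h2 := addOrderOf_dvd_of_nsmul_eq_zero (hexp v)
    rw [hv] at h2
    exact hp2 ((Nat.prime_dvd_prime_iff_eq Nat.prime_two hp).1 h2).symm
  obtain ⟨z, hz⟩ := F.exists_neg hp hexp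
  have hz1 : z ≠ 1 := Frame.neg_ne_one hz (hV ▸ hodd)
  have h3 : 2 < Nat.card α := by
    rw [← F.card_V, hV]
    obtain ⟨m, hm⟩ := hodd
    have : 1 < q := hV ▸ Finite.one_lt_card_iff_nontrivial.2 ⟨F.e, 0, F.e_ne⟩
    omega
  -- involutions fixing `a`
  have hinvA : ∀ v : V, orderOf (F.tr v * (z : X)) = 2 := by
    intro v
    refine orderOf_eq_prime ?_ ?_
    · rw [pow_two, show F.tr v * (z : X) * (F.tr v * (z : X)) =
        F.tr v * ((z : X) * F.tr v * (z : X)⁻¹) * ((z : X) * (z : X)) by group, F.tr_act,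
        ← Subgroup.coe_mul, Frame.neg_mul_self hz, Subgroup.coe_one, mul_one, hz, ← F.tr_add,
        add_neg_cancel, F.tr_zero]
    · intro h
      have h' := congrArg (· • F.b) h
      simp only [one_smul, mul_smul, F.H_b] at h'
      have hv : v = 0 := F.pt_inj v 0 (by rw [h', F.tr_zero, one_smul])
      rw [hv, F.tr_zero, one_mul] at h
      exact hz1 (Subtype.ext h)
  have honlyA : ∀ g : X, orderOf g = 2 → g • F.a = F.a → ∃ v, g = F.tr v * (z : X) := by
    intro g hg hga
    obtain ⟨v, h, rfl⟩ := decomp hga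
    obtain ⟨u, hu⟩ := pow_tr_mul v h 2
    have hgg : (F.tr v * (h : X)) ^ 2 = 1 := by rw [← hg, pow_orderOf_eq_one]
    rw [hgg] at hu
    have hu0 : u = 0 := by
      apply F.pt_inj
      have := congrArg (· • F.b) hu
      simp only [one_smul, mul_smul, F.H_b] at this
      rw [← this, F.tr_zero, one_smul]
    rw [hu0, F.tr_zero, one_mul] at hu
    rcases Frame.eq_one_or_eq_neg hz (h := h) (Subtype.ext (by
      rw [← pow_two, Subgroup.coe_one]; exact hu.symm)) with h' | h'
    · exfalso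
      rw [h', Subgroup.coe_one, mul_one] at hg
      have : orderOf (F.tr v) ∣ p := orderOf_dvd_of_pow_eq_one (tr_pow hexp v)
      rw [hg] at this
      exact hp2 ((Nat.prime_dvd_prime_iff_eq Nat.prime_two hp).1 this).symm
    · exact ⟨v, by rw [h']⟩
  let Inv := {g : X // orderOf g = 2}
  -- fixed incidences
  let f1 : α × V → {gx : Inv × α // gx.1.1 • gx.2 = gx.2} := fun xv =>
    ⟨(⟨MulAut.conj (mv F xv.1) (F.tr xv.2 * (z : X)), by rw [MulEquiv.orderOf_eq]; exact hinvA _⟩,
      xv.1), by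
      show (mv F xv.1 * (F.tr xv.2 * (z : X)) * (mv F xv.1)⁻¹) • xv.1 = xv.1
      rw [mul_smul, show (mv F xv.1)⁻¹ • xv.1 = F.a from inv_smul_eq_iff.2 (mv_a _).symm, mul_smul,
        mul_smul, F.H_a, F.tr_a, mv_a]⟩
  have hf1 : Function.Bijective f1 := by
    constructor
    · rintro ⟨x, v⟩ ⟨y, w⟩ e
      have hxy : x = y := congrArg (fun t => t.1.2) e
      subst hxy
      have e' : MulAut.conj (mv F x) (F.tr v * (z : X)) = MulAut.conj (mv F x) (F.tr w * (z : X)) :=
        congrArg (fun t => t.1.1.1) e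
      rw [tr_inj (mul_right_cancel ((MulAut.conj (mv F x)).injective e'))]
    · rintro ⟨⟨⟨g, hg⟩, x⟩, hgx : g • x = x⟩
      have hca : ((mv F x)⁻¹ * g * mv F x) • F.a = F.a := by
        rw [mul_smul, mul_smul, mv_a, hgx, inv_smul_eq_iff]
        exact (mv_a x).symm
      obtain ⟨v, hv⟩ := honlyA _ (by
        rw [show (mv F x)⁻¹ * g * mv F x = MulAut.conj (mv F x)⁻¹ g by simp, MulEquiv.orderOf_eq,
          hg]) hca
      refine ⟨(x, v), Subtype.ext (Prod.ext (Subtype.ext ?_) rfl)⟩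
      show mv F x * (F.tr v * (z : X)) * (mv F x)⁻¹ = g
      rw [← hv]; group
  -- moved incidences
  let f2 : (Σ xy : {t : α × α // t.1 ≠ t.2}, {g : Inv // g.1 • xy.1.1 = xy.1.2}) →
      {gx : Inv × α // ¬ gx.1.1 • gx.2 = gx.2} := fun s =>
    ⟨(s.2.1, s.1.1.1), fun h => s.1.2 (h.symm.trans s.2.2)⟩
  have hf2 : Function.Bijective f2 := by
    constructor
    · rintro ⟨⟨⟨x, y⟩, hxy⟩, ⟨g, hg⟩⟩ ⟨⟨⟨x', y'⟩, hxy'⟩, ⟨g', hg'⟩⟩ e
      obtain rfl : x = x' := congrArg (fun t => t.1.2) e
      obtain rfl : g = g' := congrArg (fun t => t.1.1) e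
      obtain rfl : y = y' := hg.symm.trans hg'
      rfl
    · rintro ⟨⟨g, x⟩, hgx⟩
      exact ⟨⟨⟨(x, g.1 • x), fun h => hgx h.symm⟩, ⟨g, rfl⟩⟩, rfl⟩
  set N := Nat.card {h : F.H // F.swap h = h⁻¹} with hN
  have hfib : ∀ xy : {t : α × α // t.1 ≠ t.2}, Nat.card {g : Inv // g.1 • xy.1.1 = xy.1.2} = N := by
    rintro ⟨⟨x, y⟩, hxy⟩
    obtain ⟨k, hkx, hky⟩ := exists_move_two (F := F) h3 hxy
    let e : {h : F.H // F.swap h = h⁻¹} → {g : Inv // g.1 • x = y} := fun h =>
      ⟨⟨MulAut.conj k ((h.1 : X) * F.s), by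
        rw [MulEquiv.orderOf_eq]
        refine orderOf_eq_prime ?_ ?_
        · rw [pow_two, show (h.1 : X) * F.s * ((h.1 : X) * F.s) =
            (h.1 : X) * (F.s * (h.1 : X) * F.s) by group, ← F.swap_coe, h.2, ← Subgroup.coe_mul,
            mul_inv_cancel, Subgroup.coe_one]
        · intro h'
          have := congrArg (· • F.a) h'
          simp only [one_smul, mul_smul, F.hsa, F.H_b] at this
          exact F.hab this.symm⟩, by
        show (k * ((h.1 : X) * F.s) * k⁻¹) • x = y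
        rw [mul_smul, show k⁻¹ • x = F.a from inv_smul_eq_iff.2 hkx.symm, mul_smul, mul_smul, F.hsa, F.H_b, hky]⟩
    have he : Function.Bijective e := by
      constructor
      · intro g h eq
        have := (MulAut.conj k).injective (congrArg (fun t => t.1.1) eq)
        exact Subtype.ext (Subtype.ext (mul_right_cancel this))
      · rintro ⟨⟨g, hg⟩, hgx : g • x = y⟩
        have hgg : g * g = 1 := by rw [← pow_two, ← hg, pow_orderOf_eq_one]
        set g' := k⁻¹ * g * k with hg'
        have hga : g' • F.a = F.b := by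
          rw [hg', mul_smul, mul_smul, hkx, hgx, inv_smul_eq_iff, hky]
        have hg'2 : g' * g' = 1 := by
          rw [hg', show k⁻¹ * g * k * (k⁻¹ * g * k) = k⁻¹ * (g * g) * k by group, hgg]; group
        have hgb : g' • F.b = F.a := by rw [← hga, ← mul_smul, hg'2, one_smul]
        have hH : g' * F.s ∈ F.H :=
          F.mem_H.2 ⟨by rw [mul_smul, F.hsa, hgb], by rw [mul_smul, F.hsb, hga]⟩
        refine ⟨⟨⟨g' * F.s, hH⟩, Subtype.ext ?_⟩, Subtype.ext (Subtype.ext ?_)⟩
        · show F.s * (g' * F.s) * F.s = (g' * F.s)⁻¹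
          rw [mul_inv_rev, inv_eq_of_mul_eq_one_left hg'2, F.s_inv, mul_assoc, mul_assoc, F.s_mul_s,
            mul_one]
        · show k * (g' * F.s * F.s) * k⁻¹ = g
          rw [mul_assoc g', F.s_mul_s, hg']; group
    exact (Nat.card_congr (Equiv.ofBijective e he)).symm
  let := Fintype.ofFinite X
  have hpairs : Nat.card {t : α × α // t.1 ≠ t.2} = (q + 1) * q := by
    let e : (Σ x : α, {y : α // x ≠ y}) ≃ {t : α × α // t.1 ≠ t.2} :=
      ⟨fun s => ⟨(s.1, s.2.1), s.2.2⟩, fun t => ⟨t.1.1, ⟨t.1.2, t.2⟩⟩, fun _ => rfl, fun _ => rfl⟩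
    rw [← Nat.card_congr e, Nat.card_sigma]
    have : ∀ x : α, Nat.card {y : α // x ≠ y} = q := fun x => by
      rw [Nat.card_congr (Equiv.subtypeEquivRight (fun y => (ne_comm : x ≠ y ↔ y ≠ x))),
        Nat.card_eq_fintype_card, Fintype.card_subtype_compl, Fintype.card_subtype_eq,
        ← Nat.card_eq_fintype_card, ← F.card_V, hV, Nat.add_sub_cancel]
    simp only [this, Finset.sum_const, Finset.card_univ, smul_eq_mul, ← Nat.card_eq_fintype_card]
    rw [← F.card_V, hV]
  have hsum := Nat.card_congr (Equiv.sumCompl (fun gx : Inv × α => gx.1.1 • gx.2 = gx.2))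
  rw [Nat.card_sum, ← Nat.card_congr (Equiv.ofBijective f1 hf1),
    ← Nat.card_congr (Equiv.ofBijective f2 hf2), Nat.card_sigma, Nat.card_prod, Nat.card_prod] at hsum
  simp only [hfib, Finset.sum_const, Finset.card_univ, smul_eq_mul, ← Nat.card_eq_fintype_card,
    hpairs] at hsum
  rw [← F.card_V, hV] at hsum
  exact Nat.eq_of_mul_eq_mul_right (show 0 < q + 1 by omega)
    (show num X 2 * (q + 1) = q * (1 + N) * (q + 1) by rw [num]; linear_combination -hsum)

end order

end Cfsg.Agent.Lib.NsePGL46.Sharp
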