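import Mathlib

/-!
# Groups of order `q (q² - 1)` with isolated characteristic

If the `p`-singular elements of a group of order `q (q² - 1)`, `q = p ^ n` odd, are exactly `q² - 1`
elements of order `p`, then the Sylow `p`-subgroups are abelian of exponent `p`, meet trivially,
number `q + 1`, and the group is sharply triply transitive on them.
-/

set_option autoImplicit false

namespace Cfsg.Agent.Lib.NsePGL46

open scoped Pointwise
open MulAction

variable {G : Type*} [Group G] [Finite G]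

/-- The `p`-singular elements are the `q² - 1` elements of order `p`. -/
structure IsoHyp (G : Type*) [Group G] (p q : ℕ) : Prop where
  card : Nat.card G = q * (q ^ 2 - 1)
  count : Nat.card {g : G // orderOf g = p} = q ^ 2 - 1
  iso : ∀ g : G, p ∣ orderOf g → orderOf g = p
  sylow : ∀ P : Sylow p G, Nat.card P = q

variable {p q : ℕ} [Fact p.Prime] {x : G}

theorem IsoHyp.pow_eq (H : IsoHyp G p q) (hx : orderOf x = p) {y : G}
    (hy : y ∈ Subgroup.centralizer ({x} : Set G)) : y ^ p = 1 := by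
  have hp : p.Prime := Fact.out
  by_cases hd : p ∣ orderOf y
  · rw [← H.iso y hd, pow_orderOf_eq_one]
  have hc : Commute x y := (Subgroup.mem_centralizer_singleton_iff.1 hy).symm
  have ho := hc.orderOf_mul_eq_mul_orderOf_of_coprime (hx ▸ hp.coprime_iff_not_dvd.2 hd)
  rw [hx] at ho
  have := H.iso (x * y) (ho ▸ Dvd.intro _ rfl)
  rw [ho, mul_eq_left₀ hp.ne_zero, orderOf_eq_one_iff] at this
  rw [this, one_pow]

theorem IsoHyp.centralizer_isPGroup (H : IsoHyp G p q) (hx : orderOf x = p) :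
    IsPGroup p (Subgroup.centralizer ({x} : Set G)) :=
  fun y => ⟨1, Subtype.ext (by rw [pow_one]; exact H.pow_eq hx y.2)⟩

theorem IsoHyp.centralizer_le_sylow (H : IsoHyp G p q) (hx : orderOf x = p) :
    Nat.card (Subgroup.centralizer ({x} : Set G)) ≤ q := by
  obtain ⟨P, hP⟩ := (H.centralizer_isPGroup hx).exists_le_sylow
  rw [← H.sylow P]
  exact Nat.card_le_card_of_injective _ (Subgroup.inclusion_injective hP)

/-- One class of elements of order `p`, with centralisers of order `q`. -/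
theorem IsoHyp.one_class (H : IsoHyp G p q) (hx : orderOf x = p) :
    Nat.card (Subgroup.centralizer ({x} : Set G)) = q ∧
      ∀ y : G, orderOf y = p → ∃ g : G, g * x * g⁻¹ = y := by
  classical
  set C := Subgroup.centralizer ({x} : Set G) with hC
  let f : G ⧸ C → {g : G // orderOf g = p} := fun c =>
    Quotient.liftOn' c (fun g => ⟨g * x * g⁻¹, by
      rw [show g * x * g⁻¹ = MulAut.conj g x from rfl, MulEquiv.orderOf_eq, hx]⟩)
      (fun a b hab => by
        rw [QuotientGroup.leftRel_apply] at hab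
        have hc := Subgroup.mem_centralizer_singleton_iff.1 hab
        refine Subtype.ext ?_
        show a * x * a⁻¹ = b * x * b⁻¹
        calc a * x * a⁻¹ = a * (x * (a⁻¹ * b)) * b⁻¹ := by group
          _ = a * (a⁻¹ * b * x) * b⁻¹ := by rw [hc]
          _ = b * x * b⁻¹ := by group)
  have hinj : Function.Injective f := by
    intro c d hcd
    induction c using Quotient.inductionOn' with | h a =>
    induction d using Quotient.inductionOn' with | h b =>
    have he : a * x * a⁻¹ = b * x * b⁻¹ := congrArg Subtype.val hcd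
    refine Quotient.sound' ?_
    rw [QuotientGroup.leftRel_apply]
    refine Subgroup.mem_centralizer_singleton_iff.2 ?_
    calc a⁻¹ * b * x = a⁻¹ * (b * x * b⁻¹) * b := by group
      _ = a⁻¹ * (a * x * a⁻¹) * b := by rw [he]
      _ = x * (a⁻¹ * b) := by group
  have h1 : Nat.card (G ⧸ C) ≤ q ^ 2 - 1 := H.count ▸ Nat.card_le_card_of_injective f hinj
  have h2 := H.centralizer_le_sylow hx
  have h3 : Nat.card (G ⧸ C) * Nat.card C = q * (q ^ 2 - 1) := by
    rw [← H.card]; exact (Subgroup.card_eq_card_quotient_mul_card_subgroup C).symm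
  have hpos : 0 < q ^ 2 - 1 := H.count ▸ Nat.card_pos_iff.2 ⟨⟨⟨x, hx⟩⟩, inferInstance⟩
  have hq : 0 < q := (Nat.card_pos (α := C)).trans_le h2
  rw [← hC] at h2
  have hCq : Nat.card C = q := by
    refine le_antisymm h2 ?_
    by_contra hlt
    have : Nat.card (G ⧸ C) * Nat.card C < (q ^ 2 - 1) * q :=
      lt_of_le_of_lt (Nat.mul_le_mul_right _ h1) (Nat.mul_lt_mul_of_pos_left (not_le.1 hlt) hpos)
    rw [h3, mul_comm] at this
    exact lt_irrefl _ this
  refine ⟨hCq, fun y hy => ?_⟩
  rw [hCq, mul_comm q] at h3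
  have hcard := Nat.eq_of_mul_eq_mul_right hq h3
  have hb := (Nat.bijective_iff_injective_and_card f).2 ⟨hinj, hcard.trans H.count.symm⟩
  obtain ⟨c, hc⟩ := hb.2 ⟨y, hy⟩
  induction c using Quotient.inductionOn' with | h a =>
  exact ⟨a, congrArg Subtype.val hc⟩

/-- The centraliser of an element of order `p` in a Sylow subgroup is that subgroup. -/
theorem IsoHyp.centralizer_eq (H : IsoHyp G p q) (hp2 : p ≠ 2) (hq : 1 < q) (P : Sylow p G)
    (hxP : x ∈ (P : Subgroup G)) (hx1 : x ≠ 1) :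
    orderOf x = p ∧ Subgroup.centralizer ({x} : Set G) = (P : Subgroup G) := by
  classical
  have hp : p.Prime := Fact.out
  have hord : ∀ u ∈ (P : Subgroup G), u ≠ 1 → orderOf u = p := by
    intro u hu hu1
    obtain ⟨k, hk⟩ := IsPGroup.iff_orderOf.1 P.2 ⟨u, hu⟩
    rw [Subgroup.orderOf_mk] at hk
    rcases k.eq_zero_or_pos with rfl | hk0
    · exact absurd (orderOf_eq_one_iff.1 (hk.trans (pow_zero p))) hu1
    exact H.iso u (hk ▸ dvd_pow_self p hk0.ne')
  have : Nontrivial P := Finite.one_lt_card_iff_nontrivial.1 (by rw [H.sylow P]; exact hq)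
  have := P.2.center_nontrivial
  obtain ⟨⟨⟨z, hzP⟩, hzc⟩, hz1⟩ := exists_ne (1 : Subgroup.center P)
  have hz1' : z ≠ 1 := fun h => hz1 (Subtype.ext (Subtype.ext h))
  have hzo := hord z hzP hz1'
  have key : ∀ w : G, orderOf w = p → (∀ u ∈ (P : Subgroup G), u * w = w * u) →
      Subgroup.centralizer ({w} : Set G) = (P : Subgroup G) := by
    intro w hw hc
    refine (Subgroup.eq_of_le_of_card_ge
      (fun u hu => Subgroup.mem_centralizer_singleton_iff.2 (hc u hu)) ?_).symm
    rw [(H.one_class hw).1, H.sylow P]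
  have hcz : ∀ u ∈ (P : Subgroup G), u * z = z * u := fun u hu =>
    congrArg Subtype.val (Subgroup.mem_center_iff.1 hzc ⟨u, hu⟩)
  have hCz := key z hzo hcz
  -- an involution inverting `z`
  obtain ⟨g, hg⟩ := (H.one_class hzo).2 z⁻¹ (by rw [orderOf_inv, hzo])
  have hgP : ∀ u ∈ (P : Subgroup G), g * u * g⁻¹ ∈ (P : Subgroup G) := by
    intro u hu
    rw [← hCz, Subgroup.mem_centralizer_singleton_iff]
    have h1 : g * u * g⁻¹ * z⁻¹ = z⁻¹ * (g * u * g⁻¹) := by
      rw [← hg]
      calc g * u * g⁻¹ * (g * z * g⁻¹) = g * (u * z) * g⁻¹ := by group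
        _ = g * (z * u) * g⁻¹ := by rw [hcz u hu]
        _ = g * z * g⁻¹ * (g * u * g⁻¹) := by group
    exact ((Commute.inv_right_iff).1 h1).eq
  have hg2 : g * g ∈ (P : Subgroup G) := by
    rw [← hCz, Subgroup.mem_centralizer_singleton_iff]
    have h1 : g * (g * z * g⁻¹) * g⁻¹ = z := by
      rw [hg, show g * z⁻¹ * g⁻¹ = (g * z * g⁻¹)⁻¹ by group, hg, inv_inv]
    calc g * g * z = g * (g * z * g⁻¹) * g⁻¹ * (g * g) := by group
      _ = z * (g * g) := by rw [h1]
  have hgnot : g ∉ (P : Subgroup G) := by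
    intro h
    have h1 : z = z⁻¹ := by
      rw [← hg, hcz g h]; group
    have h2 : z ^ 2 = 1 := by
      rw [pow_two]
      nth_rw 2 [h1]
      exact mul_inv_cancel z
    exact hp2 ((Nat.prime_dvd_prime_iff_eq hp Nat.prime_two).1 (hzo ▸ orderOf_dvd_of_pow_eq_one h2))
  have hgp : ¬ p ∣ orderOf g := by
    intro hd
    obtain ⟨m, hm⟩ := hp.odd_of_ne_two hp2
    refine hgnot ?_
    have : g = (g * g) ^ (m + 1) := by
      rw [← pow_two, ← pow_mul, show 2 * (m + 1) = p + 1 by omega, pow_succ, ← H.iso g hd,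
        pow_orderOf_eq_one, one_mul]
    rw [this]
    exact Subgroup.pow_mem _ hg2 _
  have hgg : g * g = 1 := by
    by_contra h
    have h1 : orderOf (g * g) ∣ orderOf g := by
      rw [← pow_two]; exact orderOf_pow_dvd 2
    rw [hord _ hg2 h] at h1
    exact hgp h1
  have hfree : ∀ u ∈ (P : Subgroup G), g * u * g⁻¹ = u → u = 1 := by
    intro u hu he
    by_contra hu1
    have hgc : g ^ p = 1 := H.pow_eq (hord u hu hu1)
      (Subgroup.mem_centralizer_singleton_iff.2 (mul_inv_eq_iff_eq_mul.1 he))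
    rcases (Nat.dvd_prime hp).1 (orderOf_dvd_of_pow_eq_one hgc) with h | h
    · exact hgnot (orderOf_eq_one_iff.1 h ▸ one_mem _)
    · exact hgp (h ▸ dvd_rfl)
  let φ : P →* P :=
    { toFun := fun u => ⟨g * u * g⁻¹, hgP u u.2⟩
      map_one' := Subtype.ext (by simp)
      map_mul' := fun u v => Subtype.ext (by simp only [Subgroup.coe_mul]; group) }
  have hcomm : ∀ u v : P, Commute u v := by
    refine MonoidHom.FixedPointFree.commute_all_of_involutive (φ := φ)
      (fun u hu => Subtype.ext (hfree u u.2 (congrArg Subtype.val hu))) (fun u => Subtype.ext ?_)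
    show g * (g * u * g⁻¹) * g⁻¹ = u
    calc g * (g * u * g⁻¹) * g⁻¹ = (g * g) * u * (g * g)⁻¹ := by group
      _ = u := by rw [hgg]; group
  exact ⟨hord x hxP hx1, key x (hord x hxP hx1)
    (fun u hu => congrArg Subtype.val (hcomm ⟨u, hu⟩ ⟨x, hxP⟩).eq)⟩

theorem IsoHyp.eq_of_mem (H : IsoHyp G p q) (hp2 : p ≠ 2) (hq : 1 < q) (P Q : Sylow p G)
    (hP : x ∈ (P : Subgroup G)) (hQ : x ∈ (Q : Subgroup G)) (hx1 : x ≠ 1) : P = Q :=
  Sylow.ext ((H.centralizer_eq hp2 hq P hP hx1).2.symm.trans (H.centralizer_eq hp2 hq Q hQ hx1).2)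

theorem IsoHyp.card_sylow (H : IsoHyp G p q) (hp2 : p ≠ 2) (hq : 1 < q) :
    Nat.card (Sylow p G) = q + 1 := by
  classical
  let f : (Σ P : Sylow p G, {u : (P : Subgroup G) // u ≠ 1}) → {g : G // orderOf g = p} :=
    fun s => ⟨(s.2.1 : G), (H.centralizer_eq hp2 hq s.1 s.2.1.2 (fun h => s.2.2 (Subtype.ext h))).1⟩
  have hf : Function.Bijective f := by
    constructor
    · rintro ⟨P, ⟨⟨u, hu⟩, hu1⟩⟩ ⟨Q, ⟨⟨v, hv⟩, hv1⟩⟩ e
      have e' : u = v := congrArg Subtype.val e
      subst e'
      obtain rfl := H.eq_of_mem hp2 hq P Q hu hv (fun h => hu1 (Subtype.ext h))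
      rfl
    · rintro ⟨g, hg⟩
      have hg1 : g ≠ 1 := fun h => by
        rw [h, orderOf_one] at hg
        exact (Fact.out : p.Prime).ne_one hg.symm
      have hz : IsPGroup p (Subgroup.zpowers g) :=
        IsPGroup.of_card (n := 1) (by rw [Nat.card_zpowers, hg, pow_one])
      obtain ⟨P, hP⟩ := hz.exists_le_sylow
      exact ⟨⟨P, ⟨⟨g, hP (Subgroup.mem_zpowers g)⟩, fun h => hg1 (congrArg Subtype.val h)⟩⟩, rfl⟩
  let := Fintype.ofFinite (Sylow p G)
  let := Fintype.ofFinite G
  have h := Nat.card_congr (Equiv.ofBijective f hf)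
  have hcnt : ∀ P : Sylow p G, Nat.card {u : (P : Subgroup G) // u ≠ 1} = q - 1 := fun P => by
    rw [← H.sylow P, Nat.card_eq_fintype_card, Fintype.card_subtype_compl,
      Fintype.card_subtype_eq, Nat.card_eq_fintype_card]
  rw [H.count, Nat.card_sigma] at h
  simp only [hcnt] at h
  rw [
    Finset.sum_const, Finset.card_univ, ← Nat.card_eq_fintype_card, smul_eq_mul] at h
  refine Nat.eq_of_mul_eq_mul_right (show 0 < q - 1 by omega) (h.trans ?_)
  rw [← Nat.sq_sub_sq, one_pow]

/-- The action on Sylow subgroups is sharply triply transitive. -/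
theorem IsoHyp.sharp (H : IsoHyp G p q) (hp2 : p ≠ 2) (hq : 1 < q) :
    IsMultiplyPretransitive G (Sylow p G) 3 ∧
      (∀ t : Fin 3 ↪ Sylow p G, stabilizer G t = ⊥) ∧ FaithfulSMul G (Sylow p G) := by
  classical
  have hcardS := H.card_sylow hp2 hq
  let := Fintype.ofFinite (Sylow p G)
  let := Fintype.ofFinite G
  have hthree : ∀ (g : G) (P Q R : Sylow p G), P ≠ Q → P ≠ R → Q ≠ R →
      g • P = P → g • Q = Q → g • R = R → g = 1 := by
    intro g P Q R hPQ hPR hQR hgP hgQ hgR
    have hreg : ∀ u ∈ (P : Subgroup G), u • Q = Q → u = 1 := by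
      intro u hu he
      by_contra hu1
      have hz : IsPGroup p (Subgroup.zpowers u) := P.2.to_le (Subgroup.zpowers_le.2 hu)
      have hu' : u ∈ Subgroup.normalizer ((Q : Subgroup G) : Set G) :=
        Sylow.smul_eq_iff_mem_normalizer.1 he
      have hmem : u ∈ Subgroup.zpowers u ⊓ Subgroup.normalizer ((Q : Subgroup G) : Set G) :=
        ⟨Subgroup.mem_zpowers u, hu'⟩
      have hmem' : u ∈ Subgroup.zpowers u ⊓ (Q : Subgroup G) := (hz.inf_normalizer_sylow Q).le hmem
      exact hPQ (H.eq_of_mem hp2 hq P Q hu hmem'.2 hu1)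
    have hmove : ∀ u ∈ (P : Subgroup G), u • Q ≠ P := by
      intro u hu he
      have h1 : u • P = P := Sylow.smul_eq_iff_mem_normalizer.2 (Subgroup.le_normalizer hu)
      exact hPQ (MulAction.injective u (he.trans h1.symm)).symm
    let m : ↥(P : Subgroup G) → {S : Sylow p G // S ≠ P} := fun u => ⟨(u : G) • Q, hmove u u.2⟩
    have hm : Function.Injective m := by
      intro u v e
      have e' : (u : G) • Q = (v : G) • Q := congrArg Subtype.val e
      have := hreg _ ((P : Subgroup G).mul_mem ((P : Subgroup G).inv_mem v.2) u.2)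
        (by rw [mul_smul, e', inv_smul_smul])
      exact Subtype.ext (inv_mul_eq_one.1 this).symm
    have hb : Function.Bijective m := by
      refine (Nat.bijective_iff_injective_and_card m).2 ⟨hm, ?_⟩
      rw [H.sylow P, Nat.card_eq_fintype_card, Fintype.card_subtype_compl,
        Fintype.card_subtype_eq, ← Nat.card_eq_fintype_card, hcardS, Nat.add_sub_cancel]
    obtain ⟨⟨u, hu⟩, hu'⟩ := hb.2 ⟨R, hPR.symm⟩
    have huR : u • Q = R := congrArg Subtype.val hu'
    have hu1 : u ≠ 1 := fun h => hQR (by rw [← huR, h, one_smul])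
    have hgn : g ∈ Subgroup.normalizer ((P : Subgroup G) : Set G) :=
      Sylow.smul_eq_iff_mem_normalizer.1 hgP
    have hconj : g * u * g⁻¹ ∈ (P : Subgroup G) := (Subgroup.mem_normalizer_iff.1 hgn u).1 hu
    have hfix : (g * u * g⁻¹) • Q = R := by
      rw [mul_smul, mul_smul, inv_smul_eq_iff.2 hgQ.symm, huR, hgR]
    have heq : g * u * g⁻¹ = u := by
      have := hb.1 (a₁ := ⟨g * u * g⁻¹, hconj⟩) (a₂ := ⟨u, hu⟩)
        (Subtype.ext (hfix.trans huR.symm))
      exact congrArg Subtype.val this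
    have hgC : g ∈ (P : Subgroup G) := by
      rw [← (H.centralizer_eq hp2 hq P hu hu1).2, Subgroup.mem_centralizer_singleton_iff]
      exact mul_inv_eq_iff_eq_mul.1 heq
    exact hreg g hgC hgQ
  have hsharp : ∀ t : Fin 3 ↪ Sylow p G, stabilizer G t = ⊥ := fun t =>
    (Subgroup.eq_bot_iff_forall _).2 fun g hg => hthree g (t 0) (t 1) (t 2)
      (t.injective.ne (by decide)) (t.injective.ne (by decide)) (t.injective.ne (by decide))
      (congrArg (fun e : Fin 3 ↪ Sylow p G => e 0) hg) (congrArg (fun e : Fin 3 ↪ Sylow p G => e 1) hg)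
      (congrArg (fun e : Fin 3 ↪ Sylow p G => e 2) hg)
  have hinj : ∀ t : Fin 3 ↪ Sylow p G, Function.Bijective fun g : G => g • t := by
    intro t
    refine (Nat.bijective_iff_injective_and_card _).2 ⟨fun g h e => ?_, ?_⟩
    · have : h⁻¹ * g ∈ stabilizer G t := by
        rw [mem_stabilizer_iff, mul_smul, show g • t = h • t from e, inv_smul_smul]
      rw [hsharp t, Subgroup.mem_bot, inv_mul_eq_one] at this
      exact this.symm
    · rw [H.card, Nat.card_eq_fintype_card, Fintype.card_embedding_eq, Fintype.card_fin,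
        ← Nat.card_eq_fintype_card, hcardS]
      simp only [Nat.descFactorial_succ, Nat.descFactorial_zero, mul_one, Nat.sub_zero,
        Nat.add_sub_cancel]
      rw [show q + 1 - 2 = q - 1 by omega, show q ^ 2 - 1 = (q + 1) * (q - 1) by
        rw [← Nat.sq_sub_sq, one_pow]]
      ring
  refine ⟨⟨fun s t => ?_⟩, hsharp, ⟨fun {g h} e => ?_⟩⟩
  · obtain ⟨g, hg⟩ := (hinj s).2 t
    exact ⟨g, hg⟩
  · have hcard3 : 2 < Fintype.card (Sylow p G) := by
      rw [← Nat.card_eq_fintype_card, hcardS]; omega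
    obtain ⟨P, Q, R, h1, h2, h3⟩ := Fintype.two_lt_card_iff.1 hcard3
    refine (inv_mul_eq_one.1 (hthree (h⁻¹ * g) P Q R h1 h2 h3 ?_ ?_ ?_)).symm
    all_goals rw [mul_smul, e, inv_smul_smul]

end Cfsg.Agent.Lib.NsePGL46
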